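import Mathlib.LinearAlgebra.SymmetricAlgebra.Basic
import Mathlib.LinearAlgebra.TensorProduct.RightExactness
import Mathlib.RingTheory.FiniteType
import Mathlib.RingTheory.Finiteness.Prod
import Mathlib.RingTheory.TensorProduct.Basic
import Mathlib.RingTheory.Ideal.Quotient.Operations

/-!
# Corepresentability of invertible compatible families

`A` a ring, `N i`, `N' k` modules with maps `lam k : N (l k) → N' k`, `lam' k : N (r k) → N' k`.
`IsComp M x`: the family `x i ∈ M ⊗ N i` is compatible.  `Corep`: the functor of compatible families in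
`A`-modules is corepresented by a finite module.

`exists_unitRep`: for algebras `R i`, `S k`, units `g k ∈ S k`, the functor
`B ↦ {units (v i) ∈ B ⊗ R i, v (l k) = g k * v (r k) in B ⊗ S k}` on `A`-algebras is corepresented by an algebra of
finite type, if the functors of compatible families for `g`, `g⁻¹`, `1` are corepresentable.
-/

set_option autoImplicit false

universe u v w

open TensorProduct

namespace Groth.Agent.Pic13.H546.Alg

section Comp

variable {A : Type u} [CommRing A] {ι : Type v} {κ : Type w}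
  {N : ι → Type u} [∀ i, AddCommGroup (N i)] [∀ i, Module A (N i)]
  {N' : κ → Type u} [∀ k, AddCommGroup (N' k)] [∀ k, Module A (N' k)]
  {l r : κ → ι} (lam : ∀ k, N (l k) →ₗ[A] N' k) (lam' : ∀ k, N (r k) →ₗ[A] N' k)

/-- compatible families with values in `M` -/
def IsComp (M : Type u) [AddCommGroup M] [Module A M] (x : ∀ i, M ⊗[A] N i) : Prop :=
  ∀ k, (lam k).lTensor M (x (l k)) = (lam' k).lTensor M (x (r k))

/-- The functor of compatible families is corepresented by a finite module. -/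
def Corep : Prop :=
  ∃ (Q : Type u) (_ : AddCommGroup Q) (_ : Module A Q) (_ : Module.Finite A Q)
    (x : ∀ i, Q ⊗[A] N i), IsComp lam lam' Q x ∧
      ∀ (M : Type u) [AddCommGroup M] [Module A M] (y : ∀ i, M ⊗[A] N i), IsComp lam lam' M y →
        ∃! h : Q →ₗ[A] M, ∀ i, h.rTensor (N i) (x i) = y i

variable {lam lam'}

lemma IsComp.map {M M' : Type u} [AddCommGroup M] [Module A M] [AddCommGroup M'] [Module A M']
    (h : M →ₗ[A] M') {x : ∀ i, M ⊗[A] N i} (hx : IsComp lam lam' M x) :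
    IsComp lam lam' M' (fun i ↦ h.rTensor (N i) (x i)) := by
  intro k
  have h1 : ∀ {P P' : Type u} [AddCommGroup P] [Module A P] [AddCommGroup P'] [Module A P']
      (f : P →ₗ[A] P') (z : M ⊗[A] P), f.lTensor M' (h.rTensor P z) = h.rTensor P' (f.lTensor M z) := by
    intro P P' _ _ _ _ f z
    rw [← LinearMap.comp_apply, ← LinearMap.comp_apply, LinearMap.lTensor_comp_rTensor,
      LinearMap.rTensor_comp_lTensor]
  change (lam k).lTensor M' (h.rTensor _ (x (l k))) = (lam' k).lTensor M' (h.rTensor _ (x (r k)))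
  rw [h1, h1, hx k]

section transport

variable {N₂ : ι → Type u} [∀ i, AddCommGroup (N₂ i)] [∀ i, Module A (N₂ i)]
  {N₂' : κ → Type u} [∀ k, AddCommGroup (N₂' k)] [∀ k, Module A (N₂' k)]
  {mu : ∀ k, N₂ (l k) →ₗ[A] N₂' k} {mu' : ∀ k, N₂ (r k) →ₗ[A] N₂' k}

/-- Corepresentability is invariant under isomorphisms of systems. -/
lemma Corep.transport (e : ∀ i, N i ≃ₗ[A] N₂ i) (e' : ∀ k, N' k ≃ₗ[A] N₂' k)
    (h : ∀ k x, mu k (e _ x) = e' k (lam k x)) (h' : ∀ k x, mu' k (e _ x) = e' k (lam' k x))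
    (hc : Corep lam lam') : Corep mu mu' := by
  have key : ∀ (M : Type u) [AddCommGroup M] [Module A M] (x : ∀ i, M ⊗[A] N i),
      IsComp mu mu' M (fun i ↦ (e i).toLinearMap.lTensor M (x i)) ↔ IsComp lam lam' M x := by
    intro M _ _ x
    have hinj : ∀ k, Function.Injective ((e' k).toLinearMap.lTensor M) := fun k ↦
      ((e' k).lTensor M).injective
    refine forall_congr' fun k ↦ ?_
    have e1 : (mu k).lTensor M ((e (l k)).toLinearMap.lTensor M (x (l k))) =
        (e' k).toLinearMap.lTensor M ((lam k).lTensor M (x (l k))) := by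
      rw [← LinearMap.comp_apply, ← LinearMap.comp_apply, ← LinearMap.lTensor_comp,
        ← LinearMap.lTensor_comp]
      congr 2
      exact LinearMap.ext fun y ↦ h k y
    have e2 : (mu' k).lTensor M ((e (r k)).toLinearMap.lTensor M (x (r k))) =
        (e' k).toLinearMap.lTensor M ((lam' k).lTensor M (x (r k))) := by
      rw [← LinearMap.comp_apply, ← LinearMap.comp_apply, ← LinearMap.lTensor_comp,
        ← LinearMap.lTensor_comp]
      congr 2
      exact LinearMap.ext fun y ↦ h' k y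
    rw [e1, e2]
    exact (hinj k).eq_iff
  obtain ⟨Q, _, _, hQ, x, hx, hu⟩ := hc
  refine ⟨Q, inferInstance, inferInstance, hQ, fun i ↦ (e i).toLinearMap.lTensor Q (x i),
    (key Q x).2 hx, fun M _ _ y hy ↦ ?_⟩
  have hy' : IsComp lam lam' M (fun i ↦ (e i).symm.toLinearMap.lTensor M (y i)) := by
    rw [← key M]
    have : (fun i ↦ (e i).toLinearMap.lTensor M ((e i).symm.toLinearMap.lTensor M (y i))) = y := by
      funext i
      exact ((e i).lTensor M).apply_symm_apply (y i)
    rw [this]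
    exact hy
  have h1 : ∀ (f : Q →ₗ[A] M) i, f.rTensor (N₂ i) ((e i).toLinearMap.lTensor Q (x i)) =
      (e i).toLinearMap.lTensor M (f.rTensor (N i) (x i)) := by
    intro f i
    rw [← LinearMap.comp_apply, ← LinearMap.comp_apply, LinearMap.lTensor_comp_rTensor,
      LinearMap.rTensor_comp_lTensor]
  obtain ⟨f, hf, hf'⟩ := hu M _ hy'
  refine ⟨f, fun i ↦ ?_, fun f₂ hf₂ ↦ hf' f₂ fun i ↦ ?_⟩
  · change f.rTensor (N₂ i) ((e i).toLinearMap.lTensor Q (x i)) = y i
    rw [h1, hf i]
    exact ((e i).lTensor M).apply_symm_apply (y i)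
  · have h2 : (e i).toLinearMap.lTensor M (f₂.rTensor (N i) (x i)) = y i := by
      rw [← h1]
      exact hf₂ i
    rw [← h2]
    exact (((e i).lTensor M).symm_apply_apply _).symm

end transport

end Comp

section Units

variable {A : Type u} [CommRing A] {ι : Type v} {κ : Type w}
  {R : ι → Type u} [∀ i, CommRing (R i)] [∀ i, Algebra A (R i)]
  {S : κ → Type u} [∀ k, CommRing (S k)] [∀ k, Algebra A (S k)]
  {l r : κ → ι} (rho : ∀ k, R (l k) →ₐ[A] S k) (rho' : ∀ k, R (r k) →ₐ[A] S k)

/-- the right hand map, twisted by `g` -/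
noncomputable abbrev tw (g : ∀ k, S k) (k : κ) : R (r k) →ₗ[A] S k :=
  LinearMap.mulLeft A (g k) ∘ₗ (rho' k).toLinearMap

/-- compatible families of elements of `B ⊗ R i`. -/
def IsCompA (g : ∀ k, S k) (B : Type u) [CommRing B] [Algebra A B] (v : ∀ i, B ⊗[A] R i) : Prop :=
  ∀ k, Algebra.TensorProduct.map (AlgHom.id A B) (rho k) (v (l k)) =
    (1 ⊗ₜ[A] g k) * Algebra.TensorProduct.map (AlgHom.id A B) (rho' k) (v (r k))

variable {rho rho'}

lemma map_id_eq_lTensor {B P P' : Type u} [CommRing B] [Algebra A B] [CommRing P] [Algebra A P] [CommRing P']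
    [Algebra A P'] (f : P →ₐ[A] P') (z : B ⊗[A] P) :
    Algebra.TensorProduct.map (AlgHom.id A B) f z = f.toLinearMap.lTensor B z := by
  induction z using TensorProduct.induction_on with
  | zero => simp
  | add x y hx hy => rw [map_add, map_add, hx, hy]
  | tmul a b => rfl

lemma map_eq_rTensor {B B' P : Type u} [CommRing B] [Algebra A B] [CommRing B'] [Algebra A B'] [CommRing P]
    [Algebra A P] (f : B →ₐ[A] B') (z : B ⊗[A] P) :
    Algebra.TensorProduct.map f (AlgHom.id A P) z = f.toLinearMap.rTensor P z := by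
  induction z using TensorProduct.induction_on with
  | zero => simp
  | add x y hx hy => rw [map_add, map_add, hx, hy]
  | tmul a b => rfl

lemma lTensor_mulLeft {B P : Type u} [CommRing B] [Algebra A B] [CommRing P] [Algebra A P] (a : P)
    (z : B ⊗[A] P) : (LinearMap.mulLeft A a).lTensor B z = (1 ⊗ₜ[A] a) * z := by
  induction z using TensorProduct.induction_on with
  | zero => simp
  | add x y hx hy => rw [map_add, mul_add, hx, hy]
  | tmul b c => simp

lemma isComp_iff {g : ∀ k, S k} {B : Type u} [CommRing B] [Algebra A B] {v : ∀ i, B ⊗[A] R i} :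
    IsComp (fun k ↦ (rho k).toLinearMap) (tw rho' g) B v ↔ IsCompA rho rho' g B v := by
  refine forall_congr' fun k ↦ ?_
  rw [map_id_eq_lTensor, map_id_eq_lTensor, LinearMap.lTensor_comp, LinearMap.comp_apply,
    lTensor_mulLeft]

lemma IsCompA.map {g : ∀ k, S k} {B B' : Type u} [CommRing B] [Algebra A B] [CommRing B'] [Algebra A B']
    {v : ∀ i, B ⊗[A] R i} (h : IsCompA rho rho' g B v) (f : B →ₐ[A] B') :
    IsCompA rho rho' g B' (fun i ↦ Algebra.TensorProduct.map f (AlgHom.id A (R i)) (v i)) := by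
  rw [← isComp_iff] at h ⊢
  have := h.map f.toLinearMap
  simpa only [map_eq_rTensor] using this

/-- The compatible family of inverses. -/
lemma IsCompA.inv {g g' : ∀ k, S k} (hg : ∀ k, g k * g' k = 1) {B : Type u} [CommRing B] [Algebra A B]
    {v v' : ∀ i, B ⊗[A] R i} (hv : ∀ i, v i * v' i = 1) (h : IsCompA rho rho' g B v) :
    IsCompA rho rho' g' B v' := by
  intro k
  have h1 := h k
  have e1 : Algebra.TensorProduct.map (AlgHom.id A B) (rho k) (v (l k)) *
      Algebra.TensorProduct.map (AlgHom.id A B) (rho k) (v' (l k)) = 1 := by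
    rw [← map_mul, hv, map_one]
  have e2 : Algebra.TensorProduct.map (AlgHom.id A B) (rho' k) (v (r k)) *
      Algebra.TensorProduct.map (AlgHom.id A B) (rho' k) (v' (r k)) = 1 := by
    rw [← map_mul, hv, map_one]
  have e3 : ((1 : B) ⊗ₜ[A] g k) * ((1 : B) ⊗ₜ[A] g' k) = 1 := by
    rw [Algebra.TensorProduct.tmul_mul_tmul, hg, one_mul]
    rfl
  rw [h1] at e1
  generalize Algebra.TensorProduct.map (AlgHom.id A B) (rho k) (v' (l k)) = a at *
  generalize Algebra.TensorProduct.map (AlgHom.id A B) (rho' k) (v' (r k)) = b at *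
  generalize Algebra.TensorProduct.map (AlgHom.id A B) (rho' k) (v (r k)) = c at *
  generalize (1 : B) ⊗ₜ[A] g k = x at *
  generalize (1 : B) ⊗ₜ[A] g' k = y at *
  calc a = a * (c * b) * (x * y) := by rw [e2, e3, mul_one, mul_one]
    _ = (x * c * a) * (y * b) := by ring
    _ = y * b := by rw [e1, one_mul]

/-- **Corepresentability of invertible compatible families.** -/
theorem exists_unitRep {g g' : ∀ k, S k} (hg : ∀ k, g k * g' k = 1)
    (h₁ : Corep (fun k ↦ (rho k).toLinearMap) (tw rho' g))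
    (h₂ : Corep (fun k ↦ (rho k).toLinearMap) (tw rho' g'))
    (h₃ : Corep (fun k ↦ (rho k).toLinearMap) (fun k ↦ (rho' k).toLinearMap)) :
    ∃ (E : Type u) (_ : CommRing E) (_ : Algebra A E) (_ : Algebra.FiniteType A E)
      (u : ∀ i, E ⊗[A] R i), (∀ i, IsUnit (u i)) ∧ IsCompA rho rho' g E u ∧
      ∀ (B : Type u) [CommRing B] [Algebra A B] (v : ∀ i, B ⊗[A] R i), (∀ i, IsUnit (v i)) →
        IsCompA rho rho' g B v →
        ∃! h : E →ₐ[A] B, ∀ i, Algebra.TensorProduct.map h (AlgHom.id A (R i)) (u i) = v i := by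
  obtain ⟨Q, _, _, hQ, x, hx, hu⟩ := h₁
  obtain ⟨Q', _, _, hQ', x', hx', hu'⟩ := h₂
  obtain ⟨K, _, _, hK, z, hz, huz⟩ := h₃
  let E₀ := SymmetricAlgebra A (Q × Q')
  let f : Q →ₗ[A] E₀ := SymmetricAlgebra.ι A (Q × Q') ∘ₗ LinearMap.inl A Q Q'
  let f' : Q' →ₗ[A] E₀ := SymmetricAlgebra.ι A (Q × Q') ∘ₗ LinearMap.inr A Q Q'
  let u₀ : ∀ i, E₀ ⊗[A] R i := fun i ↦ f.rTensor (R i) (x i)
  let u₀' : ∀ i, E₀ ⊗[A] R i := fun i ↦ f'.rTensor (R i) (x' i)
  have hu₀ : IsCompA rho rho' g E₀ u₀ := isComp_iff.1 (hx.map f)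
  have hu₀' : IsCompA rho rho' g' E₀ u₀' := isComp_iff.1 (hx'.map f')
  let w : ∀ i, E₀ ⊗[A] R i := fun i ↦ u₀ i * u₀' i - 1
  have hw : IsComp (fun k ↦ (rho k).toLinearMap) (fun k ↦ (rho' k).toLinearMap) E₀ w := by
    intro k
    have h1 := hu₀ k
    have h2 := hu₀' k
    have e3 : ((1 : E₀) ⊗ₜ[A] g k) * ((1 : E₀) ⊗ₜ[A] g' k) = 1 := by
      rw [Algebra.TensorProduct.tmul_mul_tmul, hg, one_mul]
      rfl
    rw [← map_id_eq_lTensor, ← map_id_eq_lTensor]
    simp only [w, map_sub, map_mul, map_one]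
    rw [h1, h2]
    generalize Algebra.TensorProduct.map (AlgHom.id A E₀) (rho' k) (u₀ (r k)) = a
    generalize Algebra.TensorProduct.map (AlgHom.id A E₀) (rho' k) (u₀' (r k)) = b
    generalize (1 : E₀) ⊗ₜ[A] g k = x at *
    generalize (1 : E₀) ⊗ₜ[A] g' k = y at *
    have : x * a * (y * b) = (x * y) * (a * b) := by ring
    rw [this, e3, one_mul]
  obtain ⟨q, hq, -⟩ := huz E₀ w hw
  let J : Ideal E₀ := Ideal.span (Set.range q)
  let mk : E₀ →ₐ[A] E₀ ⧸ J := Ideal.Quotient.mkₐ A J
  let u : ∀ i, (E₀ ⧸ J) ⊗[A] R i := fun i ↦ Algebra.TensorProduct.map mk (AlgHom.id A (R i)) (u₀ i)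
  let u' : ∀ i, (E₀ ⧸ J) ⊗[A] R i := fun i ↦ Algebra.TensorProduct.map mk (AlgHom.id A (R i)) (u₀' i)
  have hmk : mk.toLinearMap ∘ₗ q = 0 := by
    ext y
    exact Ideal.Quotient.eq_zero_iff_mem.2 (Ideal.subset_span ⟨y, rfl⟩)
  have huu' : ∀ i, u i * u' i = 1 := by
    intro i
    rw [← sub_eq_zero]
    have : u i * u' i - 1 = Algebra.TensorProduct.map mk (AlgHom.id A (R i)) (w i) := by
      simp only [w, map_sub, map_mul, map_one, u, u']
    rw [this, ← hq i, map_eq_rTensor, ← LinearMap.comp_apply, ← LinearMap.rTensor_comp, hmk]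
    simp
  have hft : Algebra.FiniteType A E₀ := by
    obtain ⟨s, hs⟩ := Module.Finite.fg_top (R := A) (M := Q × Q')
    classical
    refine ⟨s.image (SymmetricAlgebra.ι A (Q × Q')), ?_⟩
    rw [Algebra.eq_top_iff]
    intro y
    induction y using SymmetricAlgebra.induction with
    | algebraMap a => exact Subalgebra.algebraMap_mem _ a
    | ι y =>
      have hy : y ∈ Submodule.span A (s : Set (Q × Q')) := by rw [hs]; trivial
      induction hy using Submodule.span_induction with
      | mem y hy =>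
        exact Algebra.subset_adjoin (by
          rw [Finset.coe_image]
          exact ⟨y, hy, rfl⟩)
      | zero => rw [map_zero]; exact Subalgebra.zero_mem _
      | add a b _ _ ha hb => rw [map_add]; exact Subalgebra.add_mem _ ha hb
      | smul a b _ hb => rw [map_smul]; exact Subalgebra.smul_mem _ hb a
    | mul a b ha hb => exact Subalgebra.mul_mem _ ha hb
    | add a b ha hb => exact Subalgebra.add_mem _ ha hb
  refine ⟨E₀ ⧸ J, inferInstance, inferInstance,
    hft.of_surjective mk (Ideal.Quotient.mkₐ_surjective A J), u,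
    fun i ↦ IsUnit.of_mul_eq_one _ (huu' i), hu₀.map mk, fun B _ _ v hv hvc ↦ ?_⟩
  choose v' hv' using fun i ↦ (hv i).exists_right_inv
  have hvc' : IsCompA rho rho' g' B v' := hvc.inv hg hv'
  obtain ⟨a, ha, ha'⟩ := hu B v (isComp_iff.2 hvc)
  obtain ⟨b, hb, hb'⟩ := hu' B v' (isComp_iff.2 hvc')
  let h₀ : E₀ →ₐ[A] B := SymmetricAlgebra.lift (LinearMap.coprod a b)
  have e1 : h₀.toLinearMap ∘ₗ f = a := by
    ext y
    change SymmetricAlgebra.lift (LinearMap.coprod a b) (SymmetricAlgebra.ι A (Q × Q') (y, 0)) = a y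
    rw [SymmetricAlgebra.lift_ι_apply]
    simp
  have e2 : h₀.toLinearMap ∘ₗ f' = b := by
    ext y
    change SymmetricAlgebra.lift (LinearMap.coprod a b) (SymmetricAlgebra.ι A (Q × Q') (0, y)) = b y
    rw [SymmetricAlgebra.lift_ι_apply]
    simp
  have hu1 : ∀ i, Algebra.TensorProduct.map h₀ (AlgHom.id A (R i)) (u₀ i) = v i := by
    intro i
    rw [map_eq_rTensor, ← ha i, ← e1, LinearMap.rTensor_comp]
    rfl
  have hu2 : ∀ i, Algebra.TensorProduct.map h₀ (AlgHom.id A (R i)) (u₀' i) = v' i := by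
    intro i
    rw [map_eq_rTensor, ← hb i, ← e2, LinearMap.rTensor_comp]
    rfl
  have e3 : h₀.toLinearMap ∘ₗ q = 0 := by
    refine (huz B 0 (fun k ↦ by simp)).unique (fun i ↦ ?_) (fun i ↦ by simp)
    rw [LinearMap.rTensor_comp, LinearMap.comp_apply, hq i, ← map_eq_rTensor]
    simp only [w, map_sub, map_mul, map_one]
    rw [hu1, hu2, hv', sub_self]
    rfl
  have hJ : ∀ y ∈ J, h₀ y = 0 := by
    have : J ≤ RingHom.ker h₀.toRingHom := by
      rw [Ideal.span_le]
      rintro _ ⟨y, rfl⟩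
      exact LinearMap.congr_fun e3 y
    exact fun y hy ↦ this hy
  let h : E₀ ⧸ J →ₐ[A] B := Ideal.Quotient.liftₐ J h₀ hJ
  have hmk' : h.comp mk = h₀ := AlgHom.ext fun _ ↦ rfl
  have hmap : ∀ (h : E₀ ⧸ J →ₐ[A] B) (i : ι) (y : E₀ ⊗[A] R i),
      Algebra.TensorProduct.map h (AlgHom.id A (R i)) (Algebra.TensorProduct.map mk (AlgHom.id A (R i)) y) =
      Algebra.TensorProduct.map (h.comp mk) (AlgHom.id A (R i)) y := by
    intro h i y
    rw [← AlgHom.comp_apply, ← Algebra.TensorProduct.map_comp, AlgHom.id_comp]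
  refine ⟨h, fun i ↦ ?_, fun h₂ hh₂ ↦ ?_⟩
  · change Algebra.TensorProduct.map h (AlgHom.id A (R i))
      (Algebra.TensorProduct.map mk (AlgHom.id A (R i)) (u₀ i)) = v i
    rw [hmap, hmk', hu1]
  · have k1 : ∀ i, Algebra.TensorProduct.map (h₂.comp mk) (AlgHom.id A (R i)) (u₀ i) = v i := by
      intro i
      rw [← hmap]
      exact hh₂ i
    have k2 : ∀ i, Algebra.TensorProduct.map (h₂.comp mk) (AlgHom.id A (R i)) (u₀' i) = v' i := by
      intro i
      have h3 : Algebra.TensorProduct.map h₂ (AlgHom.id A (R i)) (u i) *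
          Algebra.TensorProduct.map h₂ (AlgHom.id A (R i)) (u' i) = 1 := by
        rw [← map_mul, huu', map_one]
      rw [hh₂ i] at h3
      rw [← hmap]
      change Algebra.TensorProduct.map h₂ (AlgHom.id A (R i)) (u' i) = v' i
      exact (hv i).mul_left_cancel (h3.trans (hv' i).symm)
    have k3 : (h₂.comp mk).toLinearMap ∘ₗ f = a := ha' _ fun i ↦ by
      rw [LinearMap.rTensor_comp, LinearMap.comp_apply, ← map_eq_rTensor]
      exact k1 i
    have k4 : (h₂.comp mk).toLinearMap ∘ₗ f' = b := hb' _ fun i ↦ by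
      rw [LinearMap.rTensor_comp, LinearMap.comp_apply, ← map_eq_rTensor]
      exact k2 i
    have k5 : h₂.comp mk = h₀ := by
      apply SymmetricAlgebra.algHom_ext
      apply LinearMap.prod_ext
      · exact k3.trans e1.symm
      · exact k4.trans e2.symm
    apply Ideal.Quotient.algHom_ext
    exact k5.trans hmk'.symm

end Units

end Groth.Agent.Pic13.H546.Alg
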