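import Groth.Agent.Pic13.H546.UD

/-!
# Isomorphisms of line bundles and trivializations of a cocycle

`Triv P Q c`: generators `e i` of `P`, `q i` of `Q` over `c.U i` with `c.g i j = a b`, `e i = a e j`, `q j = b q i`.
`t.Rep φ κ w`: `φ (e i) = w i • κ (q i)`, for `φ : Fam G P Q'`, `κ : Fam G Q Q'`.  For fixed `κ` this is a bijection
between `Fam G P Q'` and the trivializations `w` of the cocycle on `G`.
-/

set_option autoImplicit false

universe u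

open CategoryTheory CategoryTheory.Limits AlgebraicGeometry TopologicalSpace Opposite

namespace Groth.Agent.Pic13.H546.Dict

open Groth.Agent.Fdesc Groth.Agent.Fdesc.LocGen Groth.Agent.Picfga.LineFam Groth.Agent.Picfga.LineDescent
  Groth.Agent.Picfga.LineHom Groth.Agent.Pic13.H546.UD

variable {Z Y Y' : Scheme.{u}} {P Q : Z.Modules}

/-- Two families are equal if they agree on local generators, the preimages of whose domains cover. -/
lemma fam_ext {G : Y ⟶ Z} {Q' : Y.Modules} {ι : Type*} {U : ι → Z.Opens} (hU : ⨆ i, G ⁻¹ᵁ U i = ⊤)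
    {e : ∀ i, Γ(P, U i)} (he : ∀ i, IsGen (e i)) {F F' : Fam G P Q'}
    (h : ∀ i, F.map (e i) = F'.map (e i)) : F = F' := by
  refine Fam.ext' fun V s ↦ ?_
  refine res_ext Q' (V := G ⁻¹ᵁ V) (fun i ↦ G ⁻¹ᵁ (V ⊓ U i))
    (fun i ↦ G.preimage_mono inf_le_left) ?_ fun i ↦ ?_
  · intro y hy
    have : y ∈ ⨆ i, G ⁻¹ᵁ U i := by rw [hU]; trivial
    obtain ⟨i, hi⟩ := Opens.mem_iSup.1 this
    exact Opens.mem_iSup.2 ⟨i, hy, hi⟩
  · obtain ⟨a, ha⟩ := exists_smul (he i) (inf_le_right : V ⊓ U i ≤ U i)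
      (LocGen.res P (inf_le_left : V ⊓ U i ≤ V) s)
    rw [← F.res inf_le_left, ← F'.res inf_le_left, ← ha, F.smul, F'.smul, F.res, F'.res, h]

/-- Generators of two invertible modules with quotient cocycle `c`. -/
structure Triv (P Q : Z.Modules) (c : Coc Z) where
  /-- generators of `P` -/
  e : ∀ i, Γ(P, c.U i)
  he : ∀ i, IsGen (e i)
  /-- generators of `Q` -/
  q : ∀ i, Γ(Q, c.U i)
  hq : ∀ i, IsGen (q i)
  rel : ∀ i j, ∃ a b : Γ(Z, c.U i ⊓ c.U j), LocGen.res P inf_le_left (e i) = a • LocGen.res P inf_le_right (e j) ∧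
    LocGen.res Q inf_le_right (q j) = b • LocGen.res Q inf_le_left (q i) ∧ c.g i j = a * b

namespace Triv

variable {c : Coc Z} (t : Triv P Q c)

/-- `φ (e i) = w i • κ (q i)`. -/
def Rep {G : Y ⟶ Z} {Q' : Y.Modules} (φ : Fam G P Q') (κ : Fam G Q Q')
    (w : ∀ i, Γ(Y, G ⁻¹ᵁ c.U i)) : Prop :=
  ∀ i, φ.map (t.e i) = w i • κ.map (t.q i)

lemma rep_unique {G : Y ⟶ Z} {Q' : Y.Modules} {φ : Fam G P Q'} {κ : Fam G Q Q'}
    {w w' : ∀ i, Γ(Y, G ⁻¹ᵁ c.U i)} (h : t.Rep φ κ w) (h' : t.Rep φ κ w') : w = w' := by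
  funext i
  apply (κ.gen (t.hq i)).ext
  rw [← h i, ← h' i]

lemma exists_rep {G : Y ⟶ Z} {Q' : Y.Modules} (φ : Fam G P Q') (κ : Fam G Q Q') :
    ∃ w, t.Rep φ κ w ∧ IsUD c G w := by
  choose w hw hw' using fun i ↦ (κ.gen (t.hq i)).exists_unit (φ.gen (t.he i))
  refine ⟨w, hw', hw, fun i j N hN ↦ ?_⟩
  obtain ⟨a, b, ha, hb, hab⟩ := t.rel i j
  have hi : N ≤ G ⁻¹ᵁ c.U i := hN.trans (G.preimage_mono inf_le_left)
  have hj : N ≤ G ⁻¹ᵁ c.U j := hN.trans (G.preimage_mono inf_le_right)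
  have h1 : φ.on hi (t.e i) = ores hi (w i) • κ.on hi (t.q i) := by
    rw [Fam.on_def, hw' i, res_smul, Fam.on_def]
  have h2 : φ.on hj (t.e j) = ores hj (w j) • κ.on hj (t.q j) := by
    rw [Fam.on_def, hw' j, res_smul, Fam.on_def]
  have h3 : φ.on hi (t.e i) = fn G hN a • φ.on hj (t.e j) := by
    rw [← Fam.on_res φ inf_le_left hN, ha, Fam.on_smul, Fam.on_res]
  have h4 : κ.on hj (t.q j) = fn G hN b • κ.on hi (t.q i) := by
    rw [← Fam.on_res κ inf_le_right hN, hb, Fam.on_smul, Fam.on_res]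
  apply ((κ.isGen_on hi (t.hq i))).ext
  rw [← h1, h3, h2, h4, smul_smul, smul_smul, hab, map_mul]
  congr 1
  ring

lemma exists_fam {G : Y ⟶ Z} {Q' : Y.Modules} (hU : ⨆ i, G ⁻¹ᵁ c.U i = ⊤) (κ : Fam G Q Q')
    {w : ∀ i, Γ(Y, G ⁻¹ᵁ c.U i)} (hw : IsUD c G w) : ∃ φ : Fam G P Q', t.Rep φ κ w := by
  obtain ⟨ψ, hψ⟩ := Fam.exists_iso_of_gens' (G := G) (L := P) (L' := Q') hU t.he
    (fun i ↦ w i • κ.map (t.q i)) (fun i ↦ (κ.gen (t.hq i)).unit_smul (hw.unit i)) (fun i j ↦ by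
      obtain ⟨a, b, ha, hb, hab⟩ := t.rel i j
      refine ⟨a, ha, ?_⟩
      have h1 := hw.comp i j (G ⁻¹ᵁ (c.U i ⊓ c.U j)) le_rfl
      have h4 := congrArg (κ.map) hb
      rw [κ.smul, κ.res, κ.res] at h4
      rw [res_smul, res_smul, h4, h1, hab, map_mul, smul_smul, smul_smul]
      congr 1
      rw [fn_apply, fn_apply, ores_refl, ores_refl]
      ring)
  exact ⟨Fam.ofIso ψ, fun i ↦ hψ i⟩

lemma fam_unique {G : Y ⟶ Z} {Q' : Y.Modules} (hU : ⨆ i, G ⁻¹ᵁ c.U i = ⊤) {κ : Fam G Q Q'}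
    {w : ∀ i, Γ(Y, G ⁻¹ᵁ c.U i)} {φ φ' : Fam G P Q'} (h : t.Rep φ κ w) (h' : t.Rep φ' κ w) : φ = φ' :=
  fam_ext hU t.he fun i ↦ (h i).trans (h' i).symm

lemma Rep.pull {G : Y ⟶ Z} {Q' : Y.Modules} {φ : Fam G P Q'} {κ : Fam G Q Q'}
    {w : ∀ i, Γ(Y, G ⁻¹ᵁ c.U i)} (h : t.Rep φ κ w) (k : Y' ⟶ Y) {Q'' : Y'.Modules} (lam : Fam k Q' Q'') :
    t.Rep (φ.comp lam) (κ.comp lam) (pullW k rfl w) := by
  intro i
  have h1 : pullW (c := c) k rfl w i = k.app _ (w i) := ores_refl _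
  rw [Fam.comp_map, h i, lam.smul]
  exact (congrArg (· • lam.map (κ.map (t.q i))) h1.symm)

lemma Rep.cast {G G₁ : Y ⟶ Z} (hG : G = G₁) {Q' : Y.Modules} {φ : Fam G P Q'} {κ : Fam G Q Q'}
    {w : ∀ i, Γ(Y, G ⁻¹ᵁ c.U i)} (h : t.Rep φ κ w) :
    t.Rep (φ.cast hG) (κ.cast hG) (pullW (𝟙 Y) (by rw [hG, Category.id_comp]) w) := by
  subst hG
  rw [Fam.cast_rfl, Fam.cast_rfl, pullW_id]
  exact h

end Triv

/-- Existence: for invertible `P`, `Q` the affine opens over which both are trivial. -/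
theorem exists_triv (hP : PicF.IsInvertible P) (hQ : PicF.IsInvertible Q) :
    ∃ (c : Coc Z) (_ : Triv P Q c), (∀ i, IsAffineOpen (c.U i)) ∧
      (∀ (x : Z) (V : Z.Opens), x ∈ V → ∃ i, x ∈ c.U i ∧ c.U i ≤ V) ∧
      (∃ g' : ∀ i j, Γ(Z, c.U i ⊓ c.U j), ∀ i j, c.g i j * g' i j = 1) ∧
      (∀ i, c.g i i = 1) ∧
      (∀ i j k (N : Z.Opens) (hi : N ≤ c.U i) (hj : N ≤ c.U j) (hk : N ≤ c.U k),
        ores (le_inf hi hk) (c.g i k) = ores (le_inf hi hj) (c.g i j) * ores (le_inf hj hk) (c.g j k)) := by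
  let I : Type u := {U : Z.Opens // IsAffineOpen U ∧ (∃ e : Γ(P, U), IsGen e) ∧ ∃ q : Γ(Q, U), IsGen q}
  let U : I → Z.Opens := fun i ↦ i.1
  choose e he using fun i : I ↦ i.2.2.1
  choose q hq using fun i : I ↦ i.2.2.2
  have hPP : ∀ i j : I, ∃ a : Γ(Z, U i ⊓ U j), IsUnit a ∧
      LocGen.res P (inf_le_left : U i ⊓ U j ≤ U i) (e i) = a • LocGen.res P inf_le_right (e j) := fun i j ↦
    ((he j).res inf_le_right).exists_unit ((he i).res inf_le_left)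
  have hQQ : ∀ i j : I, ∃ b : Γ(Z, U i ⊓ U j), IsUnit b ∧
      LocGen.res Q (inf_le_right : U i ⊓ U j ≤ U j) (q j) = b • LocGen.res Q inf_le_left (q i) := fun i j ↦
    ((hq i).res inf_le_left).exists_unit ((hq j).res inf_le_right)
  choose a ha ha' using hPP
  choose b hb hb' using hQQ
  choose g' hg' using fun i j ↦ ((ha i j).mul (hb i j)).exists_right_inv
  have haN : ∀ i j (N : Z.Opens) (hi : N ≤ U i) (hj : N ≤ U j),
      LocGen.res P hi (e i) = ores (le_inf hi hj) (a i j) • LocGen.res P hj (e j) := by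
    intro i j N hi hj
    have := congrArg (LocGen.res P (le_inf hi hj)) (ha' i j)
    rwa [res_res, res_smul, res_res] at this
  have hbN : ∀ i j (N : Z.Opens) (hi : N ≤ U i) (hj : N ≤ U j),
      LocGen.res Q hj (q j) = ores (le_inf hi hj) (b i j) • LocGen.res Q hi (q i) := by
    intro i j N hi hj
    have := congrArg (LocGen.res Q (le_inf hi hj)) (hb' i j)
    rwa [res_res, res_smul, res_res] at this
  refine ⟨⟨I, U, fun i j ↦ a i j * b i j⟩, ⟨e, he, q, hq, fun i j ↦ ⟨a i j, b i j, ha' i j, hb' i j, rfl⟩⟩,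
    fun i ↦ i.2.1, ?_, ⟨g', hg'⟩, ?_, ?_⟩
  · intro x V hx
    rw [isInvertible_iff] at hP hQ
    obtain ⟨U₁, e₁, hx₁, he₁⟩ := hP x
    obtain ⟨U₂, e₂, hx₂, he₂⟩ := hQ x
    obtain ⟨V', hV', hxV', hV'le⟩ := exists_isAffineOpen_mem_and_subset (X := Z) (x := x)
      (U := V ⊓ (U₁ ⊓ U₂)) ⟨hx, hx₁, hx₂⟩
    have h1 : V' ≤ U₁ := fun y hy ↦ (hV'le hy).2.1
    have h2 : V' ≤ U₂ := fun y hy ↦ (hV'le hy).2.2
    exact ⟨⟨V', hV', ⟨_, he₁.res h1⟩, ⟨_, he₂.res h2⟩⟩, hxV', fun y hy ↦ (hV'le hy).1⟩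
  · intro i
    change a i i * b i i = 1
    have h1 : a i i = 1 := by
      apply ((he i).res (inf_le_right : U i ⊓ U i ≤ U i)).ext
      rw [← ha' i i, one_smul]
    have h2 : b i i = 1 := by
      apply ((hq i).res (inf_le_left : U i ⊓ U i ≤ U i)).ext
      rw [← hb' i i, one_smul]
    rw [h1, h2, one_mul]
  · intro i j k N hi hj hk
    change ores (le_inf hi hk) (a i k * b i k) = ores (le_inf hi hj) (a i j * b i j) *
      ores (le_inf hj hk) (a j k * b j k)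
    have h1 : ores (le_inf hi hk) (a i k) = ores (le_inf hi hj) (a i j) * ores (le_inf hj hk) (a j k) := by
      apply ((he k).res hk).ext
      rw [← haN i k N hi hk, mul_smul, ← haN j k N hj hk, ← haN i j N hi hj]
    have h2 : ores (le_inf hi hk) (b i k) = ores (le_inf hi hj) (b i j) * ores (le_inf hj hk) (b j k) := by
      apply ((hq i).res hi).ext
      rw [← hbN i k N hi hk, mul_comm, mul_smul, ← hbN i j N hi hj, ← hbN j k N hj hk]
    rw [map_mul, map_mul, map_mul, h1, h2]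
    ring

end Groth.Agent.Pic13.H546.Dict
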