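import Groth.Agent.Picfga.LineFam
import Groth.Agent.Picfga.OverRep
import Groth.Agent.Picfga.HilbPull

/-!
# Trivializations of a cocycle after base change

`c : Coc Z`: opens `c.U i` of `Z` and functions `c.g i j` on `c.U i ⊓ c.U j`.

* `IsUD c G w` for `G : Y ⟶ Z`, `w i ∈ Γ(Y, G⁻¹ U i)`: all `w i` invertible and `w i = g i j w j`;
* `UDF c p : (Over T)ᵒᵖ ⥤ Type u`, `T' ↦ {w | IsUD c (Z ×_T T' ⟶ Z) w}` for `p : Z ⟶ T`;
* `isZarSheaf_UDF`.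
-/

set_option autoImplicit false

universe u

open CategoryTheory CategoryTheory.Limits AlgebraicGeometry TopologicalSpace Opposite

namespace Groth.Agent.Pic13.H546.UD

open Groth.Agent.Fdesc.LocGen Groth.Agent.Picfga.LineFam Groth.Agent.Picfga.LineDescent
  Groth.Agent.Picfga.HilbPull Groth.Agent.Picfga.OverRep

/-! ### Gluing of functions -/

section glue

variable {Y : Scheme.{u}} {κ : Type u} {V : κ → Scheme.{u}} (j : ∀ k, V k ⟶ Y)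
  [∀ k, IsOpenImmersion (j k)] (hj : ∀ y : Y, ∃ (k : κ) (v : V k), j k v = y) (O : Y.Opens)

include hj in
lemma fn_ext (a b : Γ(Y, O)) (h : ∀ k, (j k).app O a = (j k).app O b) : a = b := by
  refine ores_ext (fun k ↦ O ⊓ (j k).opensRange) (fun k ↦ inf_le_left) (fun y hy ↦ ?_) fun k ↦ ?_
  · obtain ⟨k, v, rfl⟩ := hj y
    exact Opens.mem_iSup.2 ⟨k, hy, ⟨v, rfl⟩⟩
  · apply (app_bijective (j k) (inf_le_right : O ⊓ (j k).opensRange ≤ (j k).opensRange)).1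
    rw [app_ores, app_ores, h]

include hj in
lemma fn_glue (x : ∀ k, Γ(V k, (j k) ⁻¹ᵁ O))
    (hx : ∀ (k l : κ) (W : Scheme.{u}) (a : W ⟶ V k) (b : W ⟶ V l) (w : a ≫ j k = b ≫ j l)
      (N : W.Opens) (h1 : N ≤ a ⁻¹ᵁ (j k) ⁻¹ᵁ O) (h2 : N ≤ b ⁻¹ᵁ (j l) ⁻¹ᵁ O), fn a h1 (x k) = fn b h2 (x l)) :
    ∃! y : Γ(Y, O), ∀ k, (j k).app O y = x k := by
  have h1 : ∀ k, ∃ y : Γ(Y, O ⊓ (j k).opensRange),
      (j k).app _ y = ores ((j k).preimage_mono inf_le_left) (x k) := fun k ↦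
    (app_bijective (j k) (inf_le_right : O ⊓ (j k).opensRange ≤ (j k).opensRange)).2 _
  choose y hy using h1
  obtain ⟨t, ht⟩ := ores_glue (V := O) (fun k ↦ O ⊓ (j k).opensRange) (fun k ↦ inf_le_left)
    (fun y hy ↦ by
      obtain ⟨k, v, rfl⟩ := hj y
      exact Opens.mem_iSup.2 ⟨k, hy, ⟨v, rfl⟩⟩) y (fun k l ↦ by
    let D : Y.Opens := (O ⊓ (j k).opensRange) ⊓ (O ⊓ (j l).opensRange)
    have hk : Set.range D.ι ⊆ Set.range (j k) := by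
      rintro _ ⟨d, rfl⟩
      exact d.2.1.2
    have hl : Set.range D.ι ⊆ Set.range (j l) := by
      rintro _ ⟨d, rfl⟩
      exact d.2.2.2
    let a : D.toScheme ⟶ V k := IsOpenImmersion.lift (j k) D.ι hk
    let b : D.toScheme ⟶ V l := IsOpenImmersion.lift (j l) D.ι hl
    have ha : a ≫ j k = D.ι := IsOpenImmersion.lift_fac _ _ _
    have hb : b ≫ j l = D.ι := IsOpenImmersion.lift_fac _ _ _
    have hD : D ≤ D.ι.opensRange := by rw [Scheme.Opens.opensRange_ι]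
    apply (app_bijective D.ι hD).1
    have e1 : ∀ (m : κ) (c : D.toScheme ⟶ V m) (hc : c ≫ j m = D.ι) (hD' : D ≤ O ⊓ (j m).opensRange)
        (hN : D.ι ⁻¹ᵁ D ≤ c ⁻¹ᵁ (j m) ⁻¹ᵁ O),
        D.ι.app D (ores hD' (y m)) = fn c hN (x m) := by
      intro m c hc hD' hN
      have e2 : D.ι.app D (ores hD' (y m)) = fn D.ι (D.ι.preimage_mono hD') (y m) := by
        rw [fn_apply, app_ores]
      have e3' : D.ι ⁻¹ᵁ D ≤ (c ≫ j m) ⁻¹ᵁ (O ⊓ (j m).opensRange) := by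
        rw [hc]
        exact D.ι.preimage_mono hD'
      have e3 : D.ι ⁻¹ᵁ D ≤ c ⁻¹ᵁ (j m) ⁻¹ᵁ (O ⊓ (j m).opensRange) := e3'
      rw [e2, fn_congr hc.symm, ← fn_comp (j m) c (M := (j m) ⁻¹ᵁ (O ⊓ (j m).opensRange)) le_rfl e3]
      rw [fn_apply (j m), ores_refl, hy m, fn_ores]
    have hN1' : D.ι ⁻¹ᵁ D ≤ (a ≫ j k) ⁻¹ᵁ O := by
      rw [ha]
      exact D.ι.preimage_mono (inf_le_left.trans inf_le_left)
    have hN1 : D.ι ⁻¹ᵁ D ≤ a ⁻¹ᵁ (j k) ⁻¹ᵁ O := hN1'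
    have hN2' : D.ι ⁻¹ᵁ D ≤ (b ≫ j l) ⁻¹ᵁ O := by
      rw [hb]
      exact D.ι.preimage_mono (inf_le_left.trans inf_le_left)
    have hN2 : D.ι ⁻¹ᵁ D ≤ b ⁻¹ᵁ (j l) ⁻¹ᵁ O := hN2'
    rw [e1 k a ha inf_le_left hN1, e1 l b hb inf_le_right hN2]
    exact hx k l _ a b (ha.trans hb.symm) _ hN1 hN2)
  have key : ∀ k, (j k).app O t = x k := by
    intro k
    have e1 : (j k) ⁻¹ᵁ (O ⊓ (j k).opensRange) = (j k) ⁻¹ᵁ O := by
      apply le_antisymm ((j k).preimage_mono inf_le_left)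
      intro v hv
      exact ⟨hv, ⟨v, rfl⟩⟩
    have e2 : ores ((j k).preimage_mono inf_le_left : (j k) ⁻¹ᵁ (O ⊓ (j k).opensRange) ≤ (j k) ⁻¹ᵁ O)
        ((j k).app O t) = ores ((j k).preimage_mono inf_le_left) (x k) := by
      rw [← hy k, ← ht k, app_ores]
    have e3 := congrArg (ores e1.ge) e2
    simpa using e3
  exact ⟨t, key, fun t' ht' ↦ fn_ext j hj O _ _ fun k ↦ (ht' k).trans (key k).symm⟩

end glue

/-! ### Cocycles -/

/-- Functions on the pairwise intersections of a family of opens. -/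
structure Coc (Z : Scheme.{u}) where
  /-- the index set -/
  ι : Type u
  /-- the opens -/
  U : ι → Z.Opens
  /-- the functions -/
  g : ∀ i j, Γ(Z, U i ⊓ U j)

variable {Z Y Y' T : Scheme.{u}}

/-- trivializations of the cocycle -/
structure IsUD (c : Coc Z) (G : Y ⟶ Z) (w : ∀ i, Γ(Y, G ⁻¹ᵁ c.U i)) : Prop where
  unit : ∀ i, IsUnit (w i)
  comp : ∀ i j (N : Y.Opens) (h : N ≤ G ⁻¹ᵁ (c.U i ⊓ c.U j)),
    ores (h.trans (G.preimage_mono inf_le_left)) (w i) =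
      fn G h (c.g i j) * ores (h.trans (G.preimage_mono inf_le_right)) (w j)

/-- Pull back. -/
noncomputable def pullW {c : Coc Z} {G : Y ⟶ Z} {G' : Y' ⟶ Z} (k : Y' ⟶ Y) (hk : k ≫ G = G')
    (w : ∀ i, Γ(Y, G ⁻¹ᵁ c.U i)) (i : c.ι) : Γ(Y', G' ⁻¹ᵁ c.U i) :=
  fn k (by rw [← hk]; exact le_rfl) (w i)

lemma IsUD.pull {c : Coc Z} {G : Y ⟶ Z} {G' : Y' ⟶ Z} (k : Y' ⟶ Y) (hk : k ≫ G = G')
    {w : ∀ i, Γ(Y, G ⁻¹ᵁ c.U i)} (h : IsUD c G w) : IsUD c G' (pullW k hk w) where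
  unit i := (h.unit i).map _
  comp i j N hN := by
    subst hk
    have h1 := congrArg (fn k (N := N) (U := G ⁻¹ᵁ (c.U i ⊓ c.U j)) hN)
      (h.comp i j (G ⁻¹ᵁ (c.U i ⊓ c.U j)) le_rfl)
    rw [map_mul, fn_ores, fn_ores, fn_comp] at h1
    rw [pullW, pullW, ores_fn, ores_fn]
    exact h1

lemma pullW_pullW {c : Coc Z} {Y'' : Scheme.{u}} {G : Y ⟶ Z} {G' : Y' ⟶ Z} {G'' : Y'' ⟶ Z} (k : Y' ⟶ Y)
    (hk : k ≫ G = G') (k' : Y'' ⟶ Y') (hk' : k' ≫ G' = G'') (w : ∀ i, Γ(Y, G ⁻¹ᵁ c.U i)) :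
    pullW k' hk' (pullW k hk w) = pullW (k' ≫ k) (by rw [Category.assoc, hk, hk']) w := by
  subst hk hk'
  funext i
  exact fn_comp _ _ _ _ _

lemma pullW_congr {c : Coc Z} {G : Y ⟶ Z} {G' : Y' ⟶ Z} {k k₁ : Y' ⟶ Y} (h : k = k₁)
    (hk : k ≫ G = G') (w : ∀ i, Γ(Y, G ⁻¹ᵁ c.U i)) : pullW k hk w = pullW k₁ (h ▸ hk) w := by
  subst h
  rfl

lemma pullW_id {c : Coc Z} {G : Y ⟶ Z} (w : ∀ i, Γ(Y, G ⁻¹ᵁ c.U i)) :
    pullW (𝟙 Y) (Category.id_comp G) w = w := by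
  funext i
  exact (fn_id _ _).trans (ores_refl _)

/-! ### The functor -/

/-- `T' ↦ {w | IsUD c (Z ×_T T' ⟶ Z) w}`. -/
noncomputable def UDF (c : Coc Z) (p : Z ⟶ T) : (Over T)ᵒᵖ ⥤ Type u where
  obj T' := {w : ∀ i, Γ(PicF.XT p T'.unop, (pullback.fst p T'.unop.hom) ⁻¹ᵁ c.U i) //
    IsUD c (pullback.fst p T'.unop.hom) w}
  map g := ↾(fun w ↦ ⟨pullW (PicF.XTmap p g.unop) (XTmap_fst p g.unop) w.1, w.2.pull _ _⟩)
  map_id T' := by
    refine ConcreteCategory.hom_ext _ _ fun w ↦ Subtype.ext ?_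
    exact (pullW_congr (XTmap_id p T'.unop) (XTmap_fst p (𝟙 T'.unop)) w.1).trans (pullW_id w.1)
  map_comp g h := by
    refine ConcreteCategory.hom_ext _ _ fun w ↦ Subtype.ext ?_
    exact (pullW_congr (XTmap_comp p h.unop g.unop) (XTmap_fst p (h.unop ≫ g.unop)) w.1).trans
      (pullW_pullW (PicF.XTmap p g.unop) (XTmap_fst p g.unop) (PicF.XTmap p h.unop)
        (XTmap_fst p h.unop) w.1).symm

lemma UDF_map_val {c : Coc Z} {p : Z ⟶ T} {T' T'' : Over T} (g : T'' ⟶ T') (w : (UDF c p).obj (op T')) :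
    ((UDF c p).map g.op w).1 = pullW (PicF.XTmap p g) (XTmap_fst p g) w.1 := rfl

instance isOpenImmersion_XTmap (p : Z ⟶ T) {T' T'' : Over T} (g : T'' ⟶ T') [IsOpenImmersion g.left] :
    IsOpenImmersion (PicF.XTmap p g) :=
  MorphismProperty.of_isPullback (isPullback_XTmap p g).flip ‹IsOpenImmersion g.left›

lemma cov_XTmap (p : Z ⟶ T) {T' : Over T} (𝒰 : Cov T') (y : PicF.XT p T') :
    ∃ (k : 𝒰.ι) (v : PicF.XT p (𝒰.V k)), PicF.XTmap p (𝒰.j k) v = y := by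
  obtain ⟨k, v, hv⟩ := 𝒰.covers (PicF.XTproj p T' y)
  obtain ⟨z, hz, -⟩ := Scheme.exists_preimage_of_isPullback (isPullback_XTmap p (𝒰.j k)) y v hv.symm
  exact ⟨k, z, hz⟩

/-- A compatible pair of morphisms to `X_V`, `X_V'` comes from one `W ⟶ X_W`. -/
lemma exists_over (p : Z ⟶ T) {T' : Over T} {V V' : Over T} (j : V ⟶ T') (j' : V' ⟶ T')
    {W : Scheme.{u}} (a : W ⟶ PicF.XT p V) (b : W ⟶ PicF.XT p V')
    (w : a ≫ PicF.XTmap p j = b ≫ PicF.XTmap p j') :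
    ∃ (W' : Over T) (a' : W' ⟶ V) (b' : W' ⟶ V') (e : W ⟶ PicF.XT p W'), a' ≫ j = b' ≫ j' ∧
      e ≫ PicF.XTmap p a' = a ∧ e ≫ PicF.XTmap p b' = b := by
  have w1 : a ≫ pullback.fst p V.hom = b ≫ pullback.fst p V'.hom := by
    have := congrArg (· ≫ pullback.fst p T'.hom) w
    simpa only [Category.assoc, XTmap_fst] using this
  have w2 : a ≫ PicF.XTproj p V ≫ j.left = b ≫ PicF.XTproj p V' ≫ j'.left := by
    have := congrArg (· ≫ PicF.XTproj p T') w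
    simpa only [Category.assoc, XTmap_snd] using this
  have hV : (PicF.XTproj p V ≫ V.hom) = pullback.fst p V.hom ≫ p := pullback.condition.symm
  have hV' : (PicF.XTproj p V' ≫ V'.hom) = pullback.fst p V'.hom ≫ p := pullback.condition.symm
  let W' : Over T := Over.mk (a ≫ pullback.fst p V.hom ≫ p)
  let a' : W' ⟶ V := Over.homMk (a ≫ PicF.XTproj p V) (by
    change (a ≫ PicF.XTproj p V) ≫ V.hom = a ≫ pullback.fst p V.hom ≫ p
    rw [Category.assoc, hV])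
  let b' : W' ⟶ V' := Over.homMk (b ≫ PicF.XTproj p V') (by
    change (b ≫ PicF.XTproj p V') ≫ V'.hom = a ≫ pullback.fst p V.hom ≫ p
    rw [Category.assoc, hV', ← Category.assoc, ← w1, Category.assoc])
  let e : W ⟶ PicF.XT p W' := pullback.lift (a ≫ pullback.fst p V.hom) (𝟙 _) (by
    rw [Category.id_comp, Category.assoc]; rfl)
  have he1 : e ≫ pullback.fst p W'.hom = a ≫ pullback.fst p V.hom := pullback.lift_fst _ _ _
  have he2 : e ≫ PicF.XTproj p W' = 𝟙 _ := pullback.lift_snd _ _ _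
  refine ⟨W', a', b', e, ?_, ?_, ?_⟩
  · ext1
    change (a ≫ PicF.XTproj p V) ≫ j.left = (b ≫ PicF.XTproj p V') ≫ j'.left
    rw [Category.assoc, Category.assoc, w2]
  · apply pullback.hom_ext
    · rw [Category.assoc, XTmap_fst, he1]
    · change (e ≫ PicF.XTmap p a') ≫ PicF.XTproj p V = a ≫ PicF.XTproj p V
      rw [Category.assoc, XTmap_snd, ← Category.assoc, he2, Category.id_comp]
      rfl
  · apply pullback.hom_ext
    · rw [Category.assoc, XTmap_fst, he1, w1]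
    · change (e ≫ PicF.XTmap p b') ≫ PicF.XTproj p V' = b ≫ PicF.XTproj p V'
      rw [Category.assoc, XTmap_snd, ← Category.assoc, he2, Category.id_comp]
      rfl

theorem isZarSheaf_UDF (c : Coc Z) (p : Z ⟶ T) : IsZarSheaf (UDF c p) := by
  intro T' 𝒰 x hx
  let pr : ∀ V : Over T, PicF.XT p V ⟶ Z := fun V ↦ pullback.fst p V.hom
  have hpr : ∀ k, PicF.XTmap p (𝒰.j k) ≫ pr T' = pr (𝒰.V k) := fun k ↦ XTmap_fst p _
  have hle : ∀ k i, (PicF.XTmap p (𝒰.j k)) ⁻¹ᵁ (pr T') ⁻¹ᵁ c.U i ≤ (pr (𝒰.V k)) ⁻¹ᵁ c.U i := by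
    intro k i
    rw [← hpr k]
    exact le_rfl
  have hle' : ∀ k i, (pr (𝒰.V k)) ⁻¹ᵁ c.U i ≤ (PicF.XTmap p (𝒰.j k)) ⁻¹ᵁ (pr T') ⁻¹ᵁ c.U i := by
    intro k i
    rw [← hpr k]
    exact le_rfl
  have : ∀ k, IsOpenImmersion (𝒰.j k).left := 𝒰.isOpen
  -- gluing of compatible functions
  have key : ∀ (y : ∀ k i, Γ(PicF.XT p (𝒰.V k), (pr (𝒰.V k)) ⁻¹ᵁ c.U i))
      (hy : ∀ (k l : 𝒰.ι) (W : Over T) (a : W ⟶ 𝒰.V k) (b : W ⟶ 𝒰.V l), a ≫ 𝒰.j k = b ≫ 𝒰.j l →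
        ∀ i, pullW (c := c) (PicF.XTmap p a) (XTmap_fst p a) (y k) i =
          pullW (c := c) (PicF.XTmap p b) (XTmap_fst p b) (y l) i) (i : c.ι),
      ∃! z : Γ(PicF.XT p T', (pr T') ⁻¹ᵁ c.U i), ∀ k,
        (PicF.XTmap p (𝒰.j k)).app _ z = ores (hle k i) (y k i) := by
    intro y hy i
    refine fn_glue (fun k ↦ PicF.XTmap p (𝒰.j k)) (cov_XTmap p 𝒰) ((pr T') ⁻¹ᵁ c.U i)
      (fun k ↦ ores (hle k i) (y k i)) ?_
    intro k l W a b w N h1 h2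
    obtain ⟨W', a', b', e, h3, h4, h5⟩ := exists_over p (𝒰.j k) (𝒰.j l) a b w
    have h6 := hy k l W' a' b' h3 i
    rw [fn_ores, fn_ores]
    have h7 : N ≤ e ⁻¹ᵁ (pr W') ⁻¹ᵁ c.U i := by
      have : e ≫ pr W' = a ≫ pr (𝒰.V k) := by
        rw [← h4, Category.assoc]
        congr 1
        exact (XTmap_fst p a').symm
      change N ≤ (e ≫ pr W') ⁻¹ᵁ _
      rw [this]
      exact h1.trans (a.preimage_mono (hle k i))
    have h8 := congrArg (fn e h7) h6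
    unfold pullW at h8
    rw [fn_comp, fn_comp] at h8
    rw [fn_congr h4.symm, fn_congr h5.symm]
    exact h8
  have hx' : ∀ (k l : 𝒰.ι) (W : Over T) (a : W ⟶ 𝒰.V k) (b : W ⟶ 𝒰.V l), a ≫ 𝒰.j k = b ≫ 𝒰.j l →
        ∀ i, pullW (c := c) (PicF.XTmap p a) (XTmap_fst p a) (x k).1 i =
          pullW (c := c) (PicF.XTmap p b) (XTmap_fst p b) (x l).1 i := fun k l W a b hab i ↦
    congrFun (congrArg Subtype.val (hx k l W a b hab)) i
  choose z hz hzu using key (fun k ↦ (x k).1) hx'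
  have hzk : ∀ k i, (PicF.XTmap p (𝒰.j k)).app _ (z i) = ores (hle k i) ((x k).1 i) := fun k i ↦ hz i k
  -- inverses
  choose v hv using fun k i ↦ ((x k).2.unit i).exists_right_inv
  have hv' : ∀ (k l : 𝒰.ι) (W : Over T) (a : W ⟶ 𝒰.V k) (b : W ⟶ 𝒰.V l), a ≫ 𝒰.j k = b ≫ 𝒰.j l →
        ∀ i, pullW (c := c) (PicF.XTmap p a) (XTmap_fst p a) (v k) i =
          pullW (c := c) (PicF.XTmap p b) (XTmap_fst p b) (v l) i := by
    intro k l W a b hab i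
    have h1 := hx' k l W a b hab i
    have h2 : pullW (c := c) (PicF.XTmap p a) (XTmap_fst p a) (x k).1 i *
        pullW (c := c) (PicF.XTmap p a) (XTmap_fst p a) (v k) i = 1 := by
      unfold pullW
      rw [← map_mul, hv, map_one]
    have h3 : pullW (c := c) (PicF.XTmap p b) (XTmap_fst p b) (x l).1 i *
        pullW (c := c) (PicF.XTmap p b) (XTmap_fst p b) (v l) i = 1 := by
      unfold pullW
      rw [← map_mul, hv, map_one]
    rw [h1] at h2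
    exact (IsUnit.of_mul_eq_one _ h3).mul_left_cancel (h2.trans h3.symm)
  choose z' hz' hzu' using key v hv'
  have hunit : ∀ i, z i * z' i = 1 := by
    intro i
    refine fn_ext (fun k ↦ PicF.XTmap p (𝒰.j k)) (cov_XTmap p 𝒰) _ _ _ fun k ↦ ?_
    rw [map_mul, hz i k, hz' i k, ← map_mul, hv, map_one, map_one]
  have hcomp : IsUD c (pr T') z := by
    refine ⟨fun i ↦ IsUnit.of_mul_eq_one _ (hunit i), fun i l N hN ↦ ?_⟩
    refine fn_ext (fun k ↦ PicF.XTmap p (𝒰.j k)) (cov_XTmap p 𝒰) _ _ _ fun k ↦ ?_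
    have hNk : (PicF.XTmap p (𝒰.j k)) ⁻¹ᵁ N ≤ (pr (𝒰.V k)) ⁻¹ᵁ (c.U i ⊓ c.U l) := by
      rw [← hpr k]
      exact (PicF.XTmap p (𝒰.j k)).preimage_mono hN
    have h1 := (x k).2.comp i l _ hNk
    have e1 : ∀ (m : c.ι) (h : N ≤ (pr T') ⁻¹ᵁ c.U m)
        (h' : (PicF.XTmap p (𝒰.j k)) ⁻¹ᵁ N ≤ (pr (𝒰.V k)) ⁻¹ᵁ c.U m),
        (PicF.XTmap p (𝒰.j k)).app N (ores h (z m)) = ores h' ((x k).1 m) := by
      intro m h h'
      rw [app_ores, hzk, ores_ores]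
    have e2 : (PicF.XTmap p (𝒰.j k)).app N (fn (pr T') hN (c.g i l)) =
        fn (pr (𝒰.V k)) hNk (c.g i l) := by
      have e3 : (PicF.XTmap p (𝒰.j k)).app N (fn (pr T') hN (c.g i l)) =
          fn (PicF.XTmap p (𝒰.j k)) le_rfl (fn (pr T') hN (c.g i l)) := by
        rw [fn_apply (PicF.XTmap p (𝒰.j k)), ores_refl]
      rw [e3, fn_comp, fn_congr (hpr k)]
    rw [map_mul, e2, e1 i _ (hNk.trans ((pr (𝒰.V k)).preimage_mono inf_le_left)),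
      e1 l _ (hNk.trans ((pr (𝒰.V k)).preimage_mono inf_le_right))]
    exact h1
  have hmap : ∀ (y : (UDF c p).obj (op T')) (k : 𝒰.ι), (UDF c p).map (𝒰.j k).op y = x k ↔
      ∀ i, (PicF.XTmap p (𝒰.j k)).app _ (y.1 i) = ores (hle k i) ((x k).1 i) := by
    intro y k
    constructor
    · intro h i
      rw [← h]
      change _ = ores (hle k i) (fn (PicF.XTmap p (𝒰.j k)) (hle' k i) (y.1 i))
      rw [fn_apply, ores_ores, ores_refl]
    · intro h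
      refine Subtype.ext (funext fun i ↦ ?_)
      change fn (PicF.XTmap p (𝒰.j k)) (hle' k i) (y.1 i) = (x k).1 i
      rw [fn_apply, h i, ores_ores, ores_refl]
  refine ⟨⟨z, hcomp⟩, fun k ↦ (hmap _ k).2 fun i ↦ hz i k, fun y hy ↦ ?_⟩
  exact Subtype.ext (funext fun i ↦ hzu i _ fun k ↦ (hmap y k).1 (hy k) i)

end Groth.Agent.Pic13.H546.UD
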